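import Cfsg.Agent.Lib.Helper8.Co1M.Section
import Cfsg.Agent.Lib.Lead.Co1P.Real

/-!
# The stabiliser of the base point in the permutation group on 98280 points

The number `98257` is the number of the pair of the reference minimal vector, so that the stabiliser of this point in
the permutation group `P` (the image of `Co1` on the 98280 pairs of opposite minimal vectors) corresponds to the
stabiliser of the reference pair in `Co1`: it is perfect and has no proper finite stem extension.
-/

set_option autoImplicit false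

namespace Cfsg.Agent.Lib.Helper8.Co1M

open Cfsg MulAction
open Cfsg.Agent.Lib.Helper6.Leech Cfsg.Agent.Lib.Helper7.M12Mult Cfsg.Agent.Co1P

/-- the base point: the number of the pair of the reference minimal vector -/
def b0 : Fin 98280 := ⟨98257, by norm_num⟩

theorem pv_b0 : pv 98257 = v0L := by decide +kernel

theorem e_b0 : e b0 = mkPair a0 := by
  rw [e_apply]
  show mkPair (pV b0) = mkPair a0
  congr 1
  apply Subtype.ext
  apply Subtype.ext
  show vecOf (pv 98257) = vecOf v0L
  rw [pv_b0]

theorem rho_b0_iff (g : Co1) : rho g b0 = b0 ↔ g ∈ stabilizer Co1 (mkPair a0) := by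
  rw [rho_apply, Equiv.symm_apply_eq, e_b0, mem_stabilizer_iff]

/-- the stabiliser of the base point in the permutation group -/
noncomputable def QP : Subgroup ↥P := stabilizer ↥P b0

theorem mem_QP (p : ↥P) : p ∈ QP ↔ p.1 b0 = b0 := Iff.rfl

theorem iso_val (g : Co1) : ((iso g : ↥P) : Equiv.Perm (Fin 98280)) = rho g := rfl

theorem map_stab : (stabilizer Co1 (mkPair a0)).map iso.toMonoidHom = QP := by
  ext p
  constructor
  · rintro ⟨g, hg, rfl⟩
    rw [mem_QP]
    exact (rho_b0_iff g).2 hg
  · intro hp
    obtain ⟨g, rfl⟩ := iso.surjective p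
    exact ⟨g, (rho_b0_iff g).1 ((mem_QP _).1 hp), rfl⟩

/-- the stabiliser of the reference pair and the stabiliser of the base point -/
noncomputable def stabEquivQP : ↥(stabilizer Co1 (mkPair a0)) ≃* ↥QP :=
  (iso.subgroupMap _).trans (MulEquiv.subgroupCongr map_stab)

theorem stabEquivQP_val (g : ↥(stabilizer Co1 (mkPair a0))) :
    ((stabEquivQP g : ↥P) : Equiv.Perm (Fin 98280)) = rho g.1 := rfl

theorem MF_QP : MF.{0} ↥QP := MF.of_equiv stabEquivQP MF_stab

theorem card_QP : Nat.card ↥QP = 42305421312000 := by
  rw [← Nat.card_congr stabEquivQP.toEquiv]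
  exact card_stab

theorem perfect_QP : commutator ↥QP = ⊤ := by
  have : IsSimpleGroup ↥(stabilizer Co1 (mkPair a0)) := isSimpleGroup_co1_stab
  have : IsSimpleGroup ↥QP := stabEquivQP.symm.isSimpleGroup
  have : Finite ↥QP := Nat.finite_of_card_ne_zero (by rw [card_QP]; norm_num)
  apply perfect_of_simple_card
  rw [card_QP]
  norm_num

theorem finite_P : Finite ↥P := Nat.finite_of_card_ne_zero (by rw [card_P]; norm_num)

theorem perfect_P : commutator ↥P = ⊤ := by
  have : IsSimpleGroup Spor.Co1 := isSimpleGroup_co1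
  have : IsSimpleGroup ↥P := iso.symm.isSimpleGroup
  have := finite_P
  apply perfect_of_simple_card
  rw [card_P]
  norm_num

/-- a finite stem extension of the permutation group gives one of `Co1` -/
theorem stem_comp_iso_symm {E : Type*} [Group E] (τ : E →* ↥P) (hτ : IsStemExtension τ) :
    IsStemExtension (iso.symm.toMonoidHom.comp τ) ∧ (iso.symm.toMonoidHom.comp τ).ker = τ.ker := by
  have hk : (iso.symm.toMonoidHom.comp τ).ker = τ.ker := by
    ext x
    simp only [MonoidHom.mem_ker, MonoidHom.coe_comp, Function.comp_apply, MulEquiv.coe_toMonoidHom]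
    exact iso.symm.map_eq_one_iff
  refine ⟨⟨iso.symm.surjective.comp hτ.1, ?_, ?_⟩, hk⟩
  · rw [hk]; exact hτ.2.1
  · rw [hk]; exact hτ.2.2

/-- **23 does not divide the order of the kernel of a finite stem extension of `P`** -/
theorem not_dvd_card_ker_P {E : Type*} [Group E] [Finite E] (τ : E →* ↥P) (hτ : IsStemExtension τ) :
    ¬ 23 ∣ Nat.card τ.ker := by
  obtain ⟨h1, h2⟩ := stem_comp_iso_symm τ hτ
  have := not_dvd_card_ker_co1 _ h1
  rwa [h2] at this

/-- **the stabiliser of the base point lifts to every finite stem extension of `P`** -/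
theorem P_section {E : Type} [Group E] [Finite E] (τ : E →* ↥P) (hτ : IsStemExtension τ) :
    ∃ s : ↥QP →* E, (∀ h, τ (s h) = h) ∧ ∀ h, s h ∈ Mt τ QP :=
  exists_section_of_MF hτ.1 hτ.2.1 _ perfect_QP MF_QP

end Cfsg.Agent.Lib.Helper8.Co1M
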