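import Cfsg.Agent.Lib.Helper6.LeechCenter
import Cfsg.Agent.Lib.Helper6.LeechOrder2
import Cfsg.Agent.Lib.Helper6.GolayL23b
import Cfsg.Prelude.Def_KGroupFacts
import Cfsg.Prelude.Def_Spor_Conway

/-!
# The lower bound for the multiplier of `Co1`

The automorphism group `Co0` of the rank-24 lattice is a stem extension of `Co1 = Co0 / Z(Co0)` with kernel
of order 2: the centre `{1, -1}` lies in the commutator subgroup, since `-1` is the commutator of the coordinate
permutation `x ↦ -1/x` and the sign change on the squares modulo 23 (the former maps the squares onto their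
complement).
-/

set_option autoImplicit false

namespace Cfsg.Agent.Lib.Helper8.Co1M

open Cfsg
open scoped commutatorElement
open Cfsg.Agent.Lib.Helper6.Golay Cfsg.Agent.Lib.Helper6.Leech Cfsg.Agent.Lib.Helper6.GolayL23

/-- the squares modulo 23, zero included -/
def qrSet : Finset GolayPt := support₂ (qrWord 0)

theorem isC_qrSet : IsC qrSet := ⟨qrWord 0, Submodule.subset_span (Or.inl ⟨0, rfl⟩), rfl⟩

theorem projInv_mem_M24 : projInv ∈ M24 := L23_le_M24 projInv_mem_L23

theorem mem_qrSet (j : GolayPt) : j ∈ qrSet ↔ qrWord 0 j ≠ 0 := by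
  simp [qrSet, support₂]

theorem qrWord_projInv : ∀ j : GolayPt, qrWord 0 (projInv j) ≠ 0 ↔ ¬ qrWord 0 j ≠ 0 := by decide

theorem projInv_qrSet (j : GolayPt) : projInv j ∈ qrSet ↔ j ∉ qrSet := by
  rw [mem_qrSet, mem_qrSet]; exact qrWord_projInv j

/-- the coordinate permutation `x ↦ -1/x` and the sign change on the squares commute up to `-1` -/
theorem perm_mul_sign :
    permC projInv projInv_mem_M24 * signC qrSet isC_qrSet =
      negC * signC qrSet isC_qrSet * permC projInv projInv_mem_M24 := by
  apply Subtype.ext
  apply Equiv.ext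
  intro v
  apply Subtype.ext
  funext j
  show (((permC projInv projInv_mem_M24).1 ((signC qrSet isC_qrSet).1 v) : leechLattice) : GolayPt → ℤ) j =
    ((negC.1 ((signC qrSet isC_qrSet).1 ((permC projInv projInv_mem_M24).1 v)) : leechLattice) : GolayPt → ℤ) j
  rw [permC_apply, signC_apply, negC_apply]
  show _ = -((((signC qrSet isC_qrSet).1 ((permC projInv projInv_mem_M24).1 v) : leechLattice) : GolayPt → ℤ) j)
  rw [signC_apply, permC_apply]
  by_cases h : j ∈ qrSet
  · rw [if_neg (fun h' => ((projInv_qrSet j).mp h') h), if_pos h, neg_neg]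
  · rw [if_pos ((projInv_qrSet j).mpr h), if_neg h]

/-- `-1` is a commutator in `Co0` -/
theorem negC_eq_commutator :
    negC = ⁅permC projInv projInv_mem_M24, signC qrSet isC_qrSet⁆ := by
  rw [commutatorElement_def, perm_mul_sign]
  group

theorem negC_mem_commutator : negC ∈ commutator Co0 := by
  rw [negC_eq_commutator]
  exact Subgroup.commutator_mem_commutator (Subgroup.mem_top _) (Subgroup.mem_top _)

theorem center_le_commutator : Subgroup.center Co0 ≤ commutator Co0 := by
  intro g hg
  rcases central_eq (Subgroup.mem_center_iff.mp hg) with h | h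
  · rw [h]; exact Subgroup.one_mem _
  · rw [h]; exact negC_mem_commutator

theorem finite_Co0 : Finite Co0 := Nat.finite_of_card_ne_zero (by rw [card_Co0]; norm_num)

/-- the quotient map from `Co0` onto `Co1` is a stem extension -/
theorem co1_isStem : IsStemExtension (QuotientGroup.mk' (Subgroup.center Co0)) := by
  refine ⟨QuotientGroup.mk'_surjective _, ?_, ?_⟩
  · rw [QuotientGroup.ker_mk']
  · rw [QuotientGroup.ker_mk']; exact center_le_commutator

/-- **Lower bound**: `Co1` has a finite stem extension with kernel of order 2. -/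
theorem co1_lower : ∃ (E : Type) (_ : Group E) (_ : Finite E) (σ : E →* Cfsg.Spor.Co1),
    IsStemExtension σ ∧ Nonempty (σ.ker ≃* Multiplicative (ZMod 2)) := by
  refine ⟨Co0, inferInstance, finite_Co0, QuotientGroup.mk' (Subgroup.center Co0), co1_isStem, ?_⟩
  have hk : (QuotientGroup.mk' (Subgroup.center Co0)).ker = Subgroup.center Co0 := QuotientGroup.ker_mk' _
  rw [hk]
  have : Fact (Nat.Prime 2) := ⟨Nat.prime_two⟩
  have : IsCyclic (Subgroup.center Co0) := isCyclic_of_prime_card card_center_Co0
  have hc : Nat.card (Subgroup.center Co0) = Nat.card (Multiplicative (ZMod 2)) := by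
    rw [card_center_Co0, Nat.card_congr Multiplicative.toAdd, Nat.card_zmod]
  exact ⟨mulEquivOfCyclicCardEq hc⟩

end Cfsg.Agent.Lib.Helper8.Co1M
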