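import Cfsg.Agent.Lib.Helper6.LeechCo1
import Cfsg.Agent.Lib.Lead.Co2.Iso
import Cfsg.Agent.S2044
import Cfsg.Agent.S0102
import Cfsg.Agent.Lib.Helper7.MGenE

/-!
# The stabiliser of a pair of minimal vectors lifts to every finite stem extension of `Co1`

The stabiliser in `Co1` of the pair `{v, -v}` of opposite minimal vectors is isomorphic to the stabiliser of `v` in
`Co0`, the second Conway group, which is perfect and has no proper finite stem extension.  Hence every finite central
extension `σ : E → Co1` has a homomorphic section over this stabiliser, with values in the derived subgroup of its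
preimage.  Moreover the Sylow 23-subgroups of `Co1` have order 23, so that 23 does not divide the order of the kernel of
a finite stem extension.
-/

set_option autoImplicit false

namespace Cfsg.Agent.Lib.Helper8.Co1M

open Cfsg MulAction
open scoped commutatorElement
open Cfsg.Agent.Lib.Helper6.Leech Cfsg.Agent.Lib.Helper7.M12Mult

universe u

/-- a finite simple group whose order is not a prime is perfect -/
theorem perfect_of_simple_card {S : Type*} [Group S] [Finite S] [IsSimpleGroup S]
    (hnp : ¬ (Nat.card S).Prime) : commutator S = ⊤ := by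
  have hn : (commutator S).Normal := by
    rw [commutator_def]
    infer_instance
  rcases hn.eq_bot_or_eq_top with h | h
  · exfalso
    apply hnp
    have hc : Subgroup.center S = ⊤ := (commutator_eq_bot_iff_center_eq_top S).mp h
    let _ : CommGroup S := Group.commGroupOfCenterEqTop hc
    exact IsSimpleGroup.prime_card
  · exact h

/-- a perfect subgroup without proper finite stem extensions lifts to every finite central extension, into the derived
subgroup of its preimage -/
theorem exists_section_of_MF {Γ : Type u} {G : Type*} [Group Γ] [Group G] [Finite Γ] {σ : Γ →* G}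
    (hsurj : Function.Surjective σ) (hcen : σ.ker ≤ Subgroup.center Γ) (Q : Subgroup G)
    (hperf : commutator ↥Q = ⊤) (hMF : MF.{u} ↥Q) :
    ∃ s : ↥Q →* Γ, (∀ q : ↥Q, σ (s q) = q) ∧ ∀ q : ↥Q, s q ∈ Mt σ Q := by
  have hk := resMt_ker_eq_bot hsurj hcen Q hperf hMF
  have hinj : Function.Injective (resMt (σ := σ) Q) := (MonoidHom.ker_eq_bot_iff _).1 hk
  have hsur : Function.Surjective (resMt (σ := σ) Q) := by
    intro q
    obtain ⟨x, hx, e⟩ := exists_mem_Mt hsurj Q hperf q.1 q.2
    exact ⟨⟨x, hx⟩, Subtype.ext e⟩
  let e := MulEquiv.ofBijective (resMt (σ := σ) Q) ⟨hinj, hsur⟩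
  refine ⟨(Mt σ Q).subtype.comp e.symm.toMonoidHom, ?_, ?_⟩
  · intro q
    have h1 : resMt (σ := σ) Q (e.symm q) = q := e.apply_symm_apply q
    have h2 := congrArg Subtype.val h1
    rw [resMt_apply] at h2
    exact h2
  · intro q
    exact (e.symm q).2

/-- the second Conway group has no proper finite stem extension -/
theorem MF_Co2 : MF.{0} ↥Spor.Co2 := by
  intro Γ' _ _ τ hs hc hd
  obtain ⟨π, hπ⟩ := Cfsg.Agent.S2044.result.2 Γ' τ ⟨hs, hc, hd⟩
  have : Subsingleton ↥τ.ker := hπ.subsingleton
  exact Subgroup.eq_bot_of_subsingleton _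

/-- the stabiliser of the reference pair is the second Conway group -/
noncomputable def stabEquivCo2 : ↥(stabilizer Co1 (mkPair a0)) ≃* ↥Spor.Co2 :=
  (MulEquiv.ofBijective stabHom stabHom_bijective).symm.trans Cfsg.Agent.Co2P.sporEquiv.symm

theorem MF_stab : MF.{0} ↥(stabilizer Co1 (mkPair a0)) := MF.of_equiv stabEquivCo2.symm MF_Co2

theorem card_stab : Nat.card ↥(stabilizer Co1 (mkPair a0)) = 42305421312000 := by
  rw [← Nat.card_congr (MulEquiv.ofBijective stabHom stabHom_bijective).toEquiv]
  exact card_co2Ref

theorem perfect_stab : commutator ↥(stabilizer Co1 (mkPair a0)) = ⊤ := by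
  have : IsSimpleGroup ↥(stabilizer Co1 (mkPair a0)) := isSimpleGroup_co1_stab
  have : Finite ↥(stabilizer Co1 (mkPair a0)) :=
    Nat.finite_of_card_ne_zero (by rw [card_stab]; norm_num)
  apply perfect_of_simple_card
  rw [card_stab]
  norm_num

theorem finite_co1 : Finite Spor.Co1 := Nat.finite_of_card_ne_zero (by
  show Nat.card Co1 ≠ 0
  rw [card_co1]; norm_num)

theorem perfect_co1 : commutator Spor.Co1 = ⊤ := by
  have : IsSimpleGroup Spor.Co1 := isSimpleGroup_co1
  have := finite_co1
  apply perfect_of_simple_card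
  show ¬ (Nat.card Co1).Prime
  rw [card_co1]
  norm_num

/-- **23 does not divide the order of the kernel of a finite stem extension of `Co1`** -/
theorem not_dvd_card_ker_co1 {E : Type*} [Group E] [Finite E] (σ : E →* Spor.Co1)
    (hσ : IsStemExtension σ) : ¬ 23 ∣ Nat.card σ.ker := by
  have := finite_co1
  have hperf := Cfsg.Agent.Lib.Helper7.MG.perfect_of_stem σ hσ.1 hσ.2.1 hσ.2.2 perfect_co1
  have : Fact (Nat.Prime 23) := ⟨by norm_num⟩
  exact Cfsg.Agent.S0102.result perfect_co1
    (fun P => Cfsg.Agent.Lib.Helper7.MG.isCyclic_sylow_of_card_eq 23 180772904632320000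
      (by show Nat.card Co1 = _; rw [card_co1]) (by norm_num) P) σ hσ.1 hσ.2.1 hperf

/-- **the stabiliser of the reference pair lifts to every finite stem extension of `Co1`** -/
theorem co1_section {E : Type} [Group E] [Finite E] (σ : E →* Spor.Co1) (hσ : IsStemExtension σ) :
    ∃ s : ↥(stabilizer Co1 (mkPair a0)) →* E,
      (∀ h, σ (s h) = h) ∧ ∀ h, s h ∈ Mt σ (stabilizer Co1 (mkPair a0)) :=
  exists_section_of_MF hσ.1 hσ.2.1 _ perfect_stab MF_stab

end Cfsg.Agent.Lib.Helper8.Co1M
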