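import Mathlib

/-!
# A group with at most two elements is an image of the cyclic group of order two
-/

set_option autoImplicit false

namespace Cfsg.Agent.Lib.Helper8.Co1M

/-- a finite group with at most two elements is a homomorphic image of the cyclic group of order two -/
theorem exists_surj_of_card_le_two {K : Type*} [Group K] [Finite K] (h : Nat.card K ≤ 2) :
    ∃ π : Multiplicative (ZMod 2) →* K, Function.Surjective π := by
  have hpos : 0 < Nat.card K := Nat.card_pos
  have h12 : Nat.card K = 1 ∨ Nat.card K = 2 := by omega
  rcases h12 with h1 | h2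
  · have : Subsingleton K := (Nat.card_eq_one_iff_unique.mp h1).1
    exact ⟨1, fun k => ⟨1, Subsingleton.elim _ _⟩⟩
  · have : Fact (Nat.Prime 2) := ⟨Nat.prime_two⟩
    have : IsCyclic K := isCyclic_of_prime_card h2
    have hc : Nat.card (Multiplicative (ZMod 2)) = Nat.card K := by
      rw [h2, Nat.card_congr Multiplicative.toAdd, Nat.card_zmod]
    exact ⟨(mulEquivOfCyclicCardEq hc).toMonoidHom, (mulEquivOfCyclicCardEq hc).surjective⟩

/-- a finite group whose order divides two is a homomorphic image of the cyclic group of order two -/
theorem exists_surj_of_card_dvd_two {K : Type*} [Group K] [Finite K] (h : Nat.card K ∣ 2) :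
    ∃ π : Multiplicative (ZMod 2) →* K, Function.Surjective π :=
  exists_surj_of_card_le_two (Nat.le_of_dvd (by norm_num) h)

end Cfsg.Agent.Lib.Helper8.Co1M
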